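import Cfsg.Agent.H183.Weak.HNb
import Cfsg.Agent.H845.HNSeven
import Cfsg.Agent.H149.Sp.HNEleven
import Cfsg.Agent.H653.CycGroup
import Cfsg.Agent.S0204
import Cfsg.Agent.S0205

/-!
# S4095 at the prime 2: the row `HN` (helper183)

* `factA`, `factB`, `row`.
-/

set_option autoImplicit false

namespace Cfsg.Agent.H183.Weak

open Subgroup Cfsg Cfsg.Agent
open Cfsg.Agent.H509.Weak

theorem centralizer_zpowers {G : Type*} [Group G] (x : G) :
    centralizer (zpowers x : Set G) = centralizer ({x} : Set G) := by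
  rw [zpowers_eq_closure, centralizer_closure]

/-- elements of order `p`, the Sylow `p`-subgroups being of order `p` -/
theorem card_cent_of_sylow {G : Type*} [Group G] [Finite G] {p : ℕ} (hp : p.Prime) (h : ¬ p ^ 2 ∣ Nat.card G) {x y : G}
    (hx : orderOf x = p) (hy : orderOf y = p) :
    Nat.card (centralizer ({x} : Set G)) = Nat.card (centralizer ({y} : Set G)) := by
  have : Fact p.Prime := ⟨hp⟩
  have hfac : (Nat.card G).factorization p = 1 := by
    apply le_antisymm
    · by_contra hcon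
      exact h ((pow_dvd_pow p (by omega : 2 ≤ (Nat.card G).factorization p)).trans (Nat.ordProj_dvd _ _))
    · refine (hp.dvd_iff_one_le_factorization Nat.card_pos.ne').1 ?_
      rw [← hx]
      exact orderOf_dvd_natCard x
  let P : Sylow p G := Sylow.ofCard (zpowers x) (by rw [hfac, pow_one, Nat.card_zpowers, hx])
  let Q : Sylow p G := Sylow.ofCard (zpowers y) (by rw [hfac, pow_one, Nat.card_zpowers, hy])
  obtain ⟨g, hg⟩ := MulAction.exists_smul_eq G P Q
  have h1 : (zpowers x).map (MulAut.conj g).toMonoidHom = zpowers y := by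
    have h2 : ((g • P : Sylow p G) : Subgroup G) = Q := by rw [hg]
    rw [Sylow.coe_subgroup_smul] at h2
    exact h2
  have h3 : zpowers (g * x * g⁻¹) = zpowers y := by
    rw [← h1]
    exact (MonoidHom.map_zpowers (MulAut.conj g).toMonoidHom x).symm
  rw [← centralizer_zpowers y, ← h3, centralizer_zpowers]
  exact Nat.card_congr (CpAutHNFive.TauFive.cequiv g x).toEquiv

/-- **Sylow's congruence** for `p` dividing `|G|` once -/
theorem exists_sylow_num {G : Type*} [Group G] [Finite G] {p : ℕ} (hp : p.Prime) (h : ¬ p ^ 2 ∣ Nat.card G) {x : G}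
    (hx : orderOf x = p) :
    ∃ k n : ℕ, k ∣ p - 1 ∧ n ≡ 1 [MOD p] ∧ Nat.card (centralizer ({x} : Set G)) * k * n = Nat.card G := by
  have : Fact p.Prime := ⟨hp⟩
  have hfac : (Nat.card G).factorization p = 1 := by
    apply le_antisymm
    · by_contra hcon
      exact h ((pow_dvd_pow p (by omega : 2 ≤ (Nat.card G).factorization p)).trans (Nat.ordProj_dvd _ _))
    · refine (hp.dvd_iff_one_le_factorization Nat.card_pos.ne').1 ?_
      rw [← hx]
      exact orderOf_dvd_natCard x
  let P : Sylow p G := Sylow.ofCard (zpowers x) (by rw [hfac, pow_one, Nat.card_zpowers, hx])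
  have hP : ((P : Subgroup G) : Set G) = (zpowers x : Set G) := rfl
  have h1 := card_sylow_modEq_one p G
  rw [P.card_eq_index_normalizer] at h1
  change (normalizer ((P : Subgroup G) : Set G)).index ≡ 1 [MOD p] at h1
  have hPc : Nat.card (P : Subgroup G) = p := by
    change Nat.card (zpowers x) = p
    rw [Nat.card_zpowers, hx]
  have hle : centralizer ((P : Subgroup G) : Set G) ≤ normalizer ((P : Subgroup G) : Set G) :=
    centralizer_le_normalizer _
  have h2 := H653.CycGroup.relIndex_dvd (Q := (P : Subgroup G)) (T := normalizer ((P : Subgroup G) : Set G)) hPc le_rfl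
  refine ⟨_, _, h2, h1, ?_⟩
  rw [← centralizer_zpowers, ← hP]
  rw [mul_assoc, Subgroup.relIndex_mul_index hle, Subgroup.card_mul_index]

end Cfsg.Agent.H183.Weak

namespace Cfsg.Agent.H183.Weak.HN

open Subgroup Cfsg Cfsg.Agent
open Cfsg.Agent.H509.Weak
open Cfsg.Agent.H183.Weak
open Cfsg.Agent.CpAutHN Cfsg.Agent.CpAutHN.Pairs
open Cfsg.Agent.HN.NormalH (ψ)
open Cfsg.Agent.HN.P1408 (hw)

universe u

theorem fin_G : Finite Spor.HN := Nat.finite_of_card_ne_zero (by rw [card_G]; norm_num)

theorem FT (K : Type) [Group K] [Finite K] (h : Odd (Nat.card K)) : Group.IsSolvable K := Cfsg.Agent.S0205.result h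

theorem F204 (K : Type) [Group K] [Finite K] [IsSimpleGroup K] (h : ¬ IsCyclic K) : ∃ E : Subgroup K, IsKleinFour E :=
  Cfsg.Agent.S0204.result h

/-- order 7 -/
theorem order_seven {w : Spor.HN} (hw : orderOf w = 7) : Nat.card (centralizer ({w} : Set Spor.HN)) = 420 := by
  have := fin_G
  rw [card_cent_of_sylow (by norm_num) (by rw [card_G]; norm_num) hw H845.HNSeven.order_X7]
  exact H845.HNSeven.card_cent

/-- order 11 -/
theorem order_eleven {w t : Spor.HN} (hw : orderOf w = 11) (ht : Spec (centralizer ({w} : Set Spor.HN)) t) :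
    Nat.card (centralizer ({w} : Set Spor.HN)) < 15625 := by
  have := fin_G
  have h4 := H149.Sp.hn_cent_eleven w hw
  have hle := ht.le_of_not_four h4
  obtain ⟨k, n, hk, hn, hkn⟩ := exists_sylow_num (by norm_num) (by rw [card_G]; norm_num) hw
  rw [card_G] at hkn
  set c := Nat.card (centralizer ({w} : Set Spor.HN)) with hc
  have h7 : ¬ 7 ∣ c := by
    intro h
    have hp : Fact (Nat.Prime 7) := ⟨by norm_num⟩
    obtain ⟨y, hy⟩ := exists_prime_orderOf_dvd_card' (G := centralizer ({w} : Set Spor.HN)) 7 h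
    have hy' : orderOf (y : Spor.HN) = 7 := by rw [Subgroup.orderOf_coe, hy]
    have h1 : w ∈ centralizer ({(y : Spor.HN)} : Set Spor.HN) :=
      mem_centralizer_singleton_iff.2 (mem_centralizer_singleton_iff.1 y.2).symm
    have h2 := orderOf_dvd_natCard (⟨w, h1⟩ : centralizer ({(y : Spor.HN)} : Set Spor.HN))
    rw [← Subgroup.orderOf_coe, order_seven hy'] at h2
    change orderOf w ∣ _ at h2
    rw [hw] at h2
    norm_num at h2
  have h1 : c ∣ Nat.card (centralizer ({t} : Set Spor.HN)) := card_dvd_of_le hle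
  have h2 : c ∣ 177408000 := by
    rcases cent_card ht.ord with h | h
    · rw [← h]; exact h1
    · rw [h] at h1
      exfalso
      have h3 : 11 ∣ c := by
        have h5 := orderOf_dvd_natCard (⟨w, mem_centralizer_singleton_iff.2 rfl⟩ : centralizer ({w} : Set Spor.HN))
        rw [← Subgroup.orderOf_coe] at h5
        change orderOf w ∣ _ at h5
        rwa [hw] at h5
      have h5 := h3.trans h1
      norm_num at h5
  clear_value c
  have h3 : c ∣ 24750 := by
    have e1 : c ∣ 2 ^ 10 * 173250 := by norm_num; exact h2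
    have e2 : c ∣ 173250 := by
      -- `gcd (c, 2 ^ 10 * 2) ∣ 2`
      obtain ⟨a, b, ha, hb, hab⟩ := (Nat.dvd_mul (k := c) (m := 2 ^ 11) (n := 86625)).1 (by norm_num; exact h2)
      obtain ⟨i, hi, rfl⟩ := (Nat.dvd_prime_pow Nat.prime_two).1 ha
      have hi1 : i ≤ 1 := by
        by_contra hcon
        apply h4
        rw [← hab]
        exact dvd_mul_of_dvd_left (pow_dvd_pow 2 (by omega : 2 ≤ i)) b
      rw [← hab]
      exact (Nat.mul_dvd_mul (pow_dvd_pow 2 hi1) hb).trans (by norm_num)
    have e3 : Nat.Coprime c 7 := ((Nat.Prime.coprime_iff_not_dvd (by norm_num)).2 h7).symm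
    exact e3.dvd_of_dvd_mul_right (by norm_num; exact e2)
  by_contra hcon
  have h5 : c = 24750 := by
    obtain ⟨d, hd⟩ := h3
    have : d = 1 := by
      by_contra hd1
      rcases Nat.lt_or_ge d 2 with h | h
      · interval_cases d <;> omega
      · nlinarith
    rw [this] at hd
    omega
  rw [h5] at hkn
  have h6 : k = 1 ∨ k = 2 ∨ k = 5 ∨ k = 10 := by
    have h7 : k ∈ Nat.divisors 10 := Nat.mem_divisors.2 ⟨hk, by norm_num⟩
    have h8 : Nat.divisors 10 = {1, 2, 5, 10} := by decide +kernel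
    rw [h8] at h7
    simpa using h7
  have h8 : n % 11 = 1 := hn
  rcases h6 with rfl | rfl | rfl | rfl <;> omega

/-- **`FactA`** -/
theorem factA : FactA Spor.HN := by
  have hfin := fin_G
  have h5 : Fact (Nat.Prime 5) := ⟨Nat.prime_five⟩
  obtain ⟨Q, hQ⟩ := Sylow.exists_subgroup_card_pow_prime (G := Spor.HN) (n := 6) 5 (by rw [card_G]; norm_num)
  have hQ' : Nat.card Q = 15625 := by rw [hQ]; norm_num
  refine ⟨Q, ?_, fun w hw hw2 => ?_⟩
  · rw [hQ']
    decide
  rw [hQ']
  by_cases hV : pCore 2 ↥(centralizer ({w} : Set Spor.HN)) = ⊥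
  · exact Or.inl hV
  obtain ⟨t, ht⟩ := exists_spec hV
  have h1 : w ∈ centralizer ({t} : Set Spor.HN) :=
    mem_centralizer_singleton_iff.2 (mem_centralizer_singleton_iff.1 ht.mem).symm
  have h2 := orderOf_dvd_natCard (⟨w, h1⟩ : centralizer ({t} : Set Spor.HN))
  rw [← Subgroup.orderOf_coe] at h2
  change orderOf w ∣ _ at h2
  have h3 : orderOf w ∣ 2 ^ 14 * 3 ^ 2 * 5 ^ 3 * 7 * 11 := by
    rcases cent_card ht.ord with h | h <;> rw [h] at h2 <;> exact h2.trans (by norm_num)
  have h4 : orderOf w = 3 ∨ orderOf w = 5 ∨ orderOf w = 7 ∨ orderOf w = 11 := by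
    rcases (Nat.Prime.dvd_mul hw).1 h3 with h3 | h3
    · rcases (Nat.Prime.dvd_mul hw).1 h3 with h3 | h3
      · rcases (Nat.Prime.dvd_mul hw).1 h3 with h3 | h3
        · rcases (Nat.Prime.dvd_mul hw).1 h3 with h3 | h3
          · exact absurd ((Nat.prime_dvd_prime_iff_eq hw Nat.prime_two).1 (hw.dvd_of_dvd_pow h3)) hw2
          · exact Or.inl ((Nat.prime_dvd_prime_iff_eq hw Nat.prime_three).1 (hw.dvd_of_dvd_pow h3))
        · exact Or.inr (Or.inl ((Nat.prime_dvd_prime_iff_eq hw Nat.prime_five).1 (hw.dvd_of_dvd_pow h3)))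
      · exact Or.inr (Or.inr (Or.inl ((Nat.prime_dvd_prime_iff_eq hw (by norm_num)).1 h3)))
    · exact Or.inr (Or.inr (Or.inr ((Nat.prime_dvd_prime_iff_eq hw (by norm_num)).1 h3)))
  rcases h4 with h | h | h | h
  · exact Or.inl (order_three h)
  · exact order_five FT F204 h
  · right
    rw [order_seven h]
    norm_num
  · exact Or.inr (order_eleven h ht)

/-- **`FactB`** -/
theorem factB {L : Type u} [Group L] [Finite L] (h : Cfsg.Spor.IsoHN L) : FactB L := by
  obtain ⟨e⟩ := h
  refine factB_of_good_equiv e (by norm_num) H287.Blk.HNRow.good H287.Blk.HNRow.orderOf_x ?_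
  have h1 : ψ (hw H287.Blk.HS.xw) = ψ (hw H287.Blk.HS.cw) * ψ (hw CpAutHNFive.HTab.w2) * (ψ (hw H287.Blk.HS.cw))⁻¹ := by
    rw [H287.Blk.HS.hw_xw, map_mul, map_mul, map_inv]
  rw [h1]
  exact pCore_equiv (CpAutHNFive.TauFive.cequiv _ _) (core_two FT F204)

/-- **The row `HN`** -/
theorem row {L : Type u} [Group L] [Finite L] (h : Cfsg.Spor.IsoHN L) (B : Cfsg.Agent.H509.Weak.Base L) :
    Cfsg.Agent.H516.Row 2 L := by
  refine row_of_facts B ?_ (factB h)
  obtain ⟨e⟩ := h
  exact FactA.congr e factA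

end Cfsg.Agent.H183.Weak.HN
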