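import Cfsg.Agent.H183.Weak.Tools
import Cfsg.Agent.H569.HNThree
import Cfsg.Agent.BpSpor.HNThree
import Cfsg.Agent.SigZeroHN.Main

/-!
# S4095 at the prime 2, row `HN`: elements of order 3 (helper183)
-/

set_option autoImplicit false

namespace Cfsg.Agent.H183.Weak.HN

open Subgroup Cfsg Cfsg.Agent
open Cfsg.Agent.H183.Weak
open Cfsg.Agent.HN.Pres Cfsg.Agent.HN.P1408 Cfsg.Agent.HN.H0Basic
open Cfsg.Agent.HN.XWords (W0 W0_sq)
open Cfsg.Agent.KFacts.HN (PP mem_PP ρ φA φB W0_ne A5)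
open Cfsg.Agent.KFacts.HN.Classes
open Cfsg.Agent.CpAutHN Cfsg.Agent.CpAutHN.LqFacts Cfsg.Agent.CpAutHN.PPFacts Cfsg.Agent.CpAutHN.Alt
open Cfsg.Agent.CpAutHN.Tr Cfsg.Agent.CpAutHN.Pairs Cfsg.Agent.CpAutHN.Second Cfsg.Agent.CpAutHN.NineAlt
open Cfsg.Agent.H509.Weak

theorem card_G : Nat.card Pairs.G = 273030912000000 := Cfsg.Agent.H569.HNThree.card_G

theorem cent_card {t : Pairs.G} (ht : orderOf t = 2) : Nat.card (centralizer ({t} : Set Pairs.G)) = 177408000 ∨
    Nat.card (centralizer ({t} : Set Pairs.G)) = 3686400 := by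
  rcases SigZeroHN.card_centralizer_cases ht with ⟨-, h⟩ | ⟨-, h⟩
  · exact Or.inl h
  · exact Or.inr h

theorem three_part (t : Pairs.G) (ht : orderOf t = 2) :
    ¬ 3 ^ (2 + 1) ∣ Nat.card (centralizer ({t} : Set Pairs.G)) := by
  rcases cent_card ht with h | h <;> rw [h] <;> norm_num

theorem five_part (t : Pairs.G) (ht : orderOf t = 2) :
    ¬ 5 ^ (3 + 1) ∣ Nat.card (centralizer ({t} : Set Pairs.G)) := by
  rcases cent_card ht with h | h <;> rw [h] <;> norm_num

theorem core_of_three [Finite Pairs.G] {C : Subgroup Pairs.G} (h : 3 ^ 5 ∣ Nat.card C) : pCore 2 ↥C = ⊥ := by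
  have : Fact (Nat.Prime 3) := ⟨Nat.prime_three⟩
  refine core_eq_bot_of_part 3 5 2 14 h three_part ?_ ?_
  · rw [card_G]
    norm_num
  · intro j h1 h2
    interval_cases j <;> norm_num

theorem core_of_five [Finite Pairs.G] {C : Subgroup Pairs.G} (h : 5 ^ 6 ∣ Nat.card C) : pCore 2 ↥C = ⊥ := by
  have : Fact (Nat.Prime 5) := ⟨Nat.prime_five⟩
  refine core_eq_bot_of_part 5 6 3 14 h five_part ?_ ?_
  · rw [card_G]
    norm_num
  · intro j h1 h2
    interval_cases j <;> norm_num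

theorem not_comm_nine : ¬ (∀ u v : A9, u * v = v * u) := by
  intro h
  have h1 := h ⟨Equiv.swap 0 1 * Equiv.swap 1 2, by rw [Equiv.Perm.mem_alternatingGroup]; decide +kernel⟩
    ⟨Equiv.swap 0 1 * Equiv.swap 1 3, by rw [Equiv.Perm.mem_alternatingGroup]; decide +kernel⟩
  have h2 := congrArg (fun z : A9 => (z : Equiv.Perm (Fin 9)) 0) h1
  revert h2
  decide +kernel

/-- `3 |A9|` divides `|C(X1)|` -/
theorem dvd_X1 : 3 ^ 5 ∣ Nat.card (centralizer ({X1} : Set Pairs.G)) := by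
  have hs := simple_range
  set C := centralizer ({X1} : Set Pairs.G) with hC
  let x : C := ⟨X1, mem_centralizer_singleton_iff.2 rfl⟩
  have hx : orderOf x = 3 := by rw [← Subgroup.orderOf_coe]; exact order_X1
  have hxc : ∀ y : C, Commute x y := fun y => Subtype.ext (mem_centralizer_singleton_iff.1 y.2).symm
  have hcen : Subgroup.center ↥(Ψ.range) = ⊥ := by
    rcases (inferInstance : (Subgroup.center ↥(Ψ.range)).Normal).eq_bot_or_eq_top with h | h
    · exact h
    · exfalso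
      apply not_comm_nine
      intro u v
      apply Ψ_inj
      rw [map_mul, map_mul]
      have h2 : (⟨Ψ u, ⟨u, rfl⟩⟩ : ↥(Ψ.range)) ∈ Subgroup.center ↥(Ψ.range) := by rw [h]; exact mem_top _
      exact (congrArg Subtype.val (mem_center_iff.1 h2 ⟨Ψ v, ⟨v, rfl⟩⟩)).symm
  have hdisj : zpowers x ⊓ Ψ.range = ⊥ := by
    rw [eq_bot_iff]
    rintro y ⟨⟨k, rfl⟩, hy⟩
    have h1 : (⟨x ^ k, hy⟩ : ↥(Ψ.range)) ∈ Subgroup.center ↥(Ψ.range) := by
      rw [mem_center_iff]
      intro z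
      exact Subtype.ext (((hxc z).zpow_left k).eq.symm)
    rw [hcen, mem_bot] at h1
    exact mem_bot.2 (congrArg Subtype.val h1)
  let f : ↥(zpowers x) × ↥(Ψ.range) →* C :=
    MonoidHom.noncommCoprod (zpowers x).subtype (Ψ.range).subtype (fun a b => by
      obtain ⟨k, hk⟩ := a.2
      have h1 : ((zpowers x).subtype a) = x ^ k := hk.symm
      rw [h1]
      exact (hxc _).zpow_left k)
  have hf : Function.Injective f := by
    rw [injective_iff_map_eq_one]
    rintro ⟨a, b⟩ hab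
    have h6 : (a : C) * b = 1 := hab
    have h7 : (a : C) = (b : C)⁻¹ := eq_inv_of_mul_eq_one_left h6
    have h8 : (a : C) ∈ zpowers x ⊓ Ψ.range := ⟨a.2, by rw [h7]; exact (Ψ.range).inv_mem b.2⟩
    rw [hdisj, mem_bot] at h8
    have h9 : (b : C) = 1 := by rw [h8, one_mul] at h6; exact h6
    exact Prod.ext (Subtype.ext h8) (Subtype.ext h9)
  have h1 := card_dvd_of_injective f hf
  rw [Nat.card_prod, card_range, Nat.card_zpowers, hx] at h1
  exact (show 3 ^ 5 ∣ 3 * 181440 by norm_num).trans h1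

/-- **elements of order 3** -/
theorem order_three [Finite Pairs.G] {w : Pairs.G} (hw : orderOf w = 3) :
    pCore 2 ↥(centralizer ({w} : Set Pairs.G)) = ⊥ := by
  by_contra hV
  obtain ⟨t, ht⟩ := exists_spec hV
  obtain ⟨s, hs, hws⟩ := exists_two hw ht.ord (mem_centralizer_singleton_iff.1 ht.mem).symm
  rcases T1_or_T2 hw hs hws with h | h
  · obtain ⟨c, hc, -⟩ := t1_x3.conj order_X3 hw h
    apply hV
    apply core_of_three
    rw [BpSpor.HNThree.card_cent_conj' hc]
    have h3 : Fact (Nat.Prime 3) := ⟨Nat.prime_three⟩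
    have h1 := (centralizer ({X3} : Set Pairs.G)).card_mul_index
    rw [card_G] at h1
    have h2 : ¬ 3 ∣ (centralizer ({X3} : Set Pairs.G)).index := H569.HNThree.index_X3
    have h4 : Nat.Coprime (3 ^ 5) (centralizer ({X3} : Set Pairs.G)).index :=
      Nat.Coprime.pow_left _ ((Nat.prime_three.coprime_iff_not_dvd).2 h2)
    exact h4.dvd_of_dvd_mul_right (by rw [h1]; norm_num)
  · obtain ⟨c, hc, -⟩ := t2_x1.conj order_X1 hw h
    apply hV
    apply core_of_three
    rw [BpSpor.HNThree.card_cent_conj' hc]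
    exact dvd_X1

end Cfsg.Agent.H183.Weak.HN
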