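import Cfsg.Agent.H183.Weak.HNa
import Cfsg.Agent.H287.Blk.HN
import Cfsg.Agent.H569.HNFiveN

/-!
# S4095 at the prime 2, row `HN`: elements of order 5 (helper183)
-/

set_option autoImplicit false

namespace Cfsg.Agent.H183.Weak.HN

open Cfsg.Agent.HN.Pres Cfsg.Agent.HN.H0Basic
open Cfsg.Agent.HN.P1408 hiding ψ
open Cfsg.Agent.HN.XWords (W0 W0_sq)
open Cfsg.Agent.HN.NormalH (ψ)
open Cfsg Cfsg.Agent
open Cfsg.Agent.KFacts.HN
open Cfsg.Agent.CpAutHN.PPFacts (isPGroup_ker)
open Cfsg.Agent.CpAutHNFive Cfsg.Agent.CpAutHNFive.LFive Cfsg.Agent.CpAutHNFive.PFive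
open Cfsg.Agent.CpAutHNFive.TFive Cfsg.Agent.CpAutHNFive.HFacts
open Cfsg.Agent.CpAutHNFive.HTab hiding c5
open Cfsg.Agent.CpAutHNFive.TauFive hiding Good
open Cfsg.Agent.CpAutHNFive.QD
open Subgroup
open Cfsg.Agent.H509.Weak
open Cfsg.Agent.H183.Weak

/-- the conclusion for `w` of order 5 -/
def Ok (C : Subgroup G) : Prop := pCore 2 ↥C = ⊥ ∨ Nat.card C < 15625

theorem Ok.congr {C D : Subgroup G} (e : C ≃* D) (h : Ok C) : Ok D := by
  rcases h with h | h
  · exact Or.inl (pCore_equiv e h)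
  · right
    rwa [← Nat.card_congr e.toEquiv]

theorem Ok.conj {x : G} (c : G) (h : Ok (centralizer ({c * x * c⁻¹} : Set G))) : Ok (centralizer ({x} : Set G)) :=
  h.congr (cequiv c x).symm

/-- `ψ w2` -/
theorem core_two (FT : ∀ (K : Type) [Group K] [Finite K], Odd (Nat.card K) → Group.IsSolvable K)
    (h204 : ∀ (K : Type) [Group K] [Finite K] [IsSimpleGroup K], ¬ IsCyclic K → ∃ E : Subgroup K, IsKleinFour E) :
    pCore 2 ↥(centralizer ({ψ (hw w2)} : Set G)) = ⊥ := by
  have hfin : Finite G := Nat.finite_of_card_ne_zero (by rw [card_G]; norm_num)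
  obtain ⟨g, h, w, J, u, v, X⟩ := CpAutHNFive.Main.exists_dat FT h204
  have h2 : Fact (Nat.Prime 2) := ⟨Nat.prime_two⟩
  by_contra hne
  have hn : (pCore 2 ↥(centralizer ({ψ (hw w2)} : Set G))).Normal := Lib.Cores.pCore_normal 2
  have hp := Lib.Cores.pCore_isPGroup (G := ↥(centralizer ({ψ (hw w2)} : Set G))) 2
  obtain ⟨n, hn2⟩ := IsPGroup.iff_card.1 hp
  have he : 2 ∣ Nat.card ↥(pCore 2 ↥(centralizer ({ψ (hw w2)} : Set G))) := by
    rw [hn2]
    refine dvd_pow_self 2 ?_
    rintro rfl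
    rw [pow_zero] at hn2
    exact hne (Subgroup.card_eq_one.1 hn2)
  have hle := X.le_of_even he
  have h3 := card_dvd_of_le hle
  rw [X.card, hn2] at h3
  have h5 : (5 : ℕ) ∣ 2 ^ n := (show (5 : ℕ) ∣ 2520 by norm_num).trans h3
  have h6 := Nat.prime_five.dvd_of_dvd_pow h5
  norm_num at h6

/-- type II : `5⁶` divides the order of the centralizer -/
theorem core_of_type_two [Finite G] {x : PP} (hx : orderOf x = 5) (h : ρ x = φA c5 * φB (c5 ^ 3)) :
    pCore 2 ↥(centralizer ({(x : G)} : Set G)) = ⊥ := by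
  obtain ⟨a, b, hab⟩ := H569.HNFive.exists_pair
  obtain ⟨q, -, hq⟩ := CpAutTh.RankOne.conj_of_quot Nat.prime_two Nat.prime_five (by norm_num) ρ isPGroup_ker hx hab.xo
    (h.trans hab.ρx.symm)
  have hq' : (q : G) * (x : G) * (q : G)⁻¹ = ((a * b ^ 3 : PP) : G) := congrArg Subtype.val hq
  have h1 : pCore 2 ↥(centralizer ({(q : G) * (x : G) * (q : G)⁻¹} : Set G)) = ⊥ := by
    rw [hq']
    exact core_of_five hab.dvd_Mx
  exact pCore_equiv (cequiv (q : G) (x : G)).symm h1

/-- `ψ w1` -/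
theorem core_one [Finite G] : pCore 2 ↥(centralizer ({ψ (hw w1)} : Set G)) = ⊥ := by
  obtain ⟨g, m, hm1, hm5, hg⟩ := H569.HNFive.exists_conj_w1
  have hox : orderOf (ψ (hw w1)) = 5 := by rw [orderOf_injective _ emb.inj, order_w1]
  have hy5 : orderOf (g * (⟨ψ (hw w1), BpSpor.HNFiveA.w1_PP⟩ : PP) ^ m * g⁻¹) = 5 := by
    have h1 : orderOf ((⟨ψ (hw w1), BpSpor.HNFiveA.w1_PP⟩ : PP) ^ m) = 5 := by
      rw [orderOf_pow, ← Subgroup.orderOf_coe]
      change orderOf (ψ (hw w1)) / _ = 5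
      rw [hox]
      interval_cases m <;> rfl
    rw [← h1]
    exact MulEquiv.orderOf_eq (MulAut.conj g) _
  have h1 := core_of_type_two hy5 hg
  obtain ⟨e⟩ := cequiv_pow hox hm1 hm5 (g := (g : G))
    (y := ((g * (⟨ψ (hw w1), BpSpor.HNFiveA.w1_PP⟩ : PP) ^ m * g⁻¹ : PP) : G)) rfl
  exact pCore_equiv e.symm h1

/-- the case of an involution `t` with `|C(w) ∩ C(t)|` dividing 100 -/
theorem ok_of_hundred [Finite G] {C : Subgroup G} {t : G} (h : Spec C t)
    (h1 : Nat.card ↥(C ⊓ centralizer ({t} : Set G) : Subgroup G) ∣ 100) : Ok C := by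
  right
  have h2 : ¬ 2 ^ (2 + 1) ∣ Nat.card ↥(C ⊓ centralizer ({t} : Set G) : Subgroup G) := by
    intro h3
    have := h3.trans h1
    norm_num at this
  have h3 := h.card_le h2
  have h4 := Nat.le_of_dvd (by norm_num) h1
  omega

/-- `C(ψ y) ∩ C(ψ τ)` -/
theorem card_inf_τ (y : H0) : Nat.card ↥(centralizer ({ψ y} : Set G) ⊓ centralizer ({ψ τ} : Set G) : Subgroup G) =
    Nat.card ↥(centralizer ({y} : Set H0)) := by
  have h1 : (centralizer ({y} : Set H0)).map ψ = centralizer ({ψ y} : Set G) ⊓ centralizer ({ψ τ} : Set G) := by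
    ext v
    constructor
    · rintro ⟨v, hv, rfl⟩
      refine ⟨mem_centralizer_singleton_iff.2 ?_, mem_centralizer_singleton_iff.2 ?_⟩
      · rw [← map_mul, ← map_mul, mem_centralizer_singleton_iff.1 hv]
      · rw [← map_mul, ← map_mul, τ_comm]
    · rintro ⟨hv1, hv2⟩
      obtain ⟨u, rfl⟩ := emb.cent v (mem_centralizer_singleton_iff.1 hv2)
      refine ⟨u, mem_centralizer_singleton_iff.2 (emb.inj ?_), rfl⟩
      rw [map_mul, map_mul]
      exact mem_centralizer_singleton_iff.1 hv1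
  rw [← h1]
  exact card_map_of_injective emb.inj

theorem card_inf_conj (u x s : G) :
    Nat.card ↥(centralizer ({u * x * u⁻¹} : Set G) ⊓ centralizer ({u * s * u⁻¹} : Set G) : Subgroup G) =
    Nat.card ↥(centralizer ({x} : Set G) ⊓ centralizer ({s} : Set G) : Subgroup G) :=
  H569.HNFive.card_inf_conj u x s

theorem inv_pow {x : G} {m : ℕ} (hx : orderOf x = 5) (h1 : 1 ≤ m) (h5 : m < 5) :
    centralizer ({x ^ m} : Set G) = centralizer ({x} : Set G) := centralizer_pow hx h1 h5

/-- type I -/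
theorem card_one [Finite G] {x : PP} (h : ρ x = φA c5) :
    Nat.card ↥(centralizer ({sx x} : Set ↥(centralizer ({(x : G)} : Set G)))) ≤ 14400 := by
  have h1 : Nat.card ↥(fC x).range ≤ 7200 := by
    rw [← card_Lq]
    exact Nat.le_of_dvd (by rw [card_Lq]; norm_num) (card_subgroup_dvd_card _)
  have h2 : Nat.card ↥(fC x).ker ∣ 2 := by
    have hle : (fC x).ker.map (toPP x) ≤ zpowers (⟨W0, W0_mem_PP⟩ : PP) := by
      rintro _ ⟨u, hu, rfl⟩
      rcases eq_of_ker (h.trans φA_c5) (fun m hm h => fix_A hm h) (v := toPP x u) hu (toPP_comm x u) with h3 | h3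
      · have : toPP x u = 1 := Subtype.ext h3
        rw [this]
        exact one_mem _
      · have : toPP x u = ⟨W0, W0_mem_PP⟩ := Subtype.ext h3
        rw [this]
        exact mem_zpowers _
    have h4 := Subgroup.card_dvd_of_le hle
    rw [Nat.card_zpowers, ← Subgroup.orderOf_coe] at h4
    change _ ∣ orderOf W0 at h4
    rw [order_W0] at h4
    rwa [Nat.card_congr ((fC x).ker.equivMapOfInjective (toPP x) (toPP_inj x)).toEquiv]
  have h3 : Nat.card ↥(centralizer ({sx x} : Set ↥(centralizer ({(x : G)} : Set G)))) =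
      Nat.card ↥(fC x).ker * Nat.card ↥(fC x).range := by
    rw [← (fC x).ker.card_mul_index, Subgroup.index_ker]
  rw [h3]
  exact (Nat.mul_le_mul (Nat.le_of_dvd (by norm_num) h2) h1).trans (by norm_num)

/-- **elements of order 5** -/
theorem order_five (FT : ∀ (K : Type) [Group K] [Finite K], Odd (Nat.card K) → Group.IsSolvable K)
    (h204 : ∀ (K : Type) [Group K] [Finite K] [IsSimpleGroup K], ¬ IsCyclic K → ∃ E : Subgroup K, IsKleinFour E)
    {w : G} (hw5 : orderOf w = 5) : Ok (centralizer ({w} : Set G)) := by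
  have hfin : Finite G := Nat.finite_of_card_ne_zero (by rw [card_G]; norm_num)
  by_cases hV : pCore 2 ↥(centralizer ({w} : Set G)) = ⊥
  · exact Or.inl hV
  obtain ⟨t, ht⟩ := exists_spec hV
  have htw : t * w = w * t := mem_centralizer_singleton_iff.1 ht.mem
  rcases Classes.inv_class ht.ord with h | h
  · -- `t` conjugate to `ψ τ`
    obtain ⟨c, hc⟩ := isConj_iff.1 h
    have h1 : c * w * c⁻¹ * ψ τ = ψ τ * (c * w * c⁻¹) := by
      rw [← hc]
      calc c * w * c⁻¹ * (c * t * c⁻¹) = c * (w * t) * c⁻¹ := by group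
        _ = c * (t * w) * c⁻¹ := by rw [htw]
        _ = _ := by group
    obtain ⟨y, hy⟩ := emb.cent _ h1
    have hy5 : orderOf y = 5 := by
      rw [← orderOf_injective ψ emb.inj, hy, ← hw5]
      exact MulEquiv.orderOf_eq (MulAut.conj c) w
    obtain ⟨g, m, hm1, hm5, x, hx', hg⟩ := five_conj hy5
    have hx5 : orderOf (ψ (hw x)) = 5 := by
      rw [orderOf_injective _ emb.inj]
      rcases hx' with rfl | rfl | rfl
      · exact order_w1
      · exact order_w2
      · exact order_w3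
    have h2 : (ψ g * c) * w * (ψ g * c)⁻¹ = ψ (hw x) ^ m := by
      rw [← map_pow, ← hg, map_mul, map_mul, map_inv, hy]
      group
    have h3 : centralizer ({(ψ g * c) * w * (ψ g * c)⁻¹} : Set G) = centralizer ({ψ (hw x)} : Set G) := by
      rw [h2, centralizer_pow hx5 hm1 hm5]
    refine Ok.conj (ψ g * c) ?_
    rw [h3]
    rcases hx' with rfl | rfl | rfl
    · exact Or.inl core_one
    · exact Or.inl (core_two FT h204)
    · have h4 : (ψ g * c) * t * (ψ g * c)⁻¹ = ψ τ := by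
        have h5 : ψ g * ψ τ * (ψ g)⁻¹ = ψ τ := by
          rw [← map_mul, τ_comm, map_mul, mul_inv_cancel_right]
        calc (ψ g * c) * t * (ψ g * c)⁻¹ = ψ g * (c * t * c⁻¹) * (ψ g)⁻¹ := by group
          _ = ψ τ := by rw [hc, h5]
      have h5 := ht.conj (ψ g * c)
      rw [map_centralizer, h3, h4] at h5
      refine ok_of_hundred h5 ?_
      rw [card_inf_τ, HFacts.card_three]
  · -- `t` conjugate to `W0`
    obtain ⟨c, hc⟩ := isConj_iff.1 h
    have h1 : c * w * c⁻¹ * W0 = W0 * (c * w * c⁻¹) := by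
      rw [← hc]
      calc c * w * c⁻¹ * (c * t * c⁻¹) = c * (w * t) * c⁻¹ := by group
        _ = c * (t * w) * c⁻¹ := by rw [htw]
        _ = _ := by group
    have hcw : orderOf (c * w * c⁻¹) = 5 := by
      rw [← hw5]
      exact MulEquiv.orderOf_eq (MulAut.conj c) w
    have hxP : orderOf (⟨c * w * c⁻¹, mem_PP.2 h1⟩ : PP) = 5 := by rw [← Subgroup.orderOf_coe]; exact hcw
    obtain ⟨g, m, hm1, hm5, hgm⟩ := conj_std hxP
    let y : PP := g * ⟨c * w * c⁻¹, mem_PP.2 h1⟩ ^ m * g⁻¹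
    have hy : (y : G) = (g : G) * (c * w * c⁻¹) ^ m * (g : G)⁻¹ := rfl
    have hy5 : orderOf y = 5 := by
      have h1' : orderOf ((⟨c * w * c⁻¹, mem_PP.2 h1⟩ : PP) ^ m) = 5 := by
        rw [orderOf_pow, hxP]
        interval_cases m <;> rfl
      rw [← h1']
      exact MulEquiv.orderOf_eq (MulAut.conj g) _
    have hgW : (g : G) * W0 * (g : G)⁻¹ = W0 := by rw [mem_PP.1 g.2, mul_inv_cancel_right]
    have hgc : ((g : G) * c) * w * ((g : G) * c)⁻¹ = (g : G) * (c * w * c⁻¹) * (g : G)⁻¹ := by group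
    have hgo : orderOf ((g : G) * (c * w * c⁻¹) * (g : G)⁻¹) = 5 := by
      rw [← hcw]
      exact MulEquiv.orderOf_eq (MulAut.conj (g : G)) _
    have h3 : centralizer ({((g : G) * c) * w * ((g : G) * c)⁻¹} : Set G) = centralizer ({(y : G)} : Set G) := by
      rw [hy, hgc]
      rw [← centralizer_pow hgo hm1 hm5, conj_pow]
    have h4 : ((g : G) * c) * t * ((g : G) * c)⁻¹ = W0 := by
      calc ((g : G) * c) * t * ((g : G) * c)⁻¹ = (g : G) * (c * t * c⁻¹) * (g : G)⁻¹ := by group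
        _ = W0 := by rw [hc, hgW]
    have h5 := ht.conj ((g : G) * c)
    rw [map_centralizer, h3, h4] at h5
    refine Ok.conj ((g : G) * c) ?_
    rw [h3]
    rcases hgm with h6 | h6 | h6
    · -- type I
      right
      have h7 : centralizer ({(y : G)} : Set G) ≤ centralizer ({W0} : Set G) := by
        refine h5.le_of_unique fun u hu hu2 huW => ?_
        have huP : u ∈ PP := mem_PP.2 huW
        have huu : u * u = 1 := by rw [← pow_two, ← hu2, pow_orderOf_eq_one]
        rcases only_one (x := y) (v := ⟨u, huP⟩) h6 huu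
          (Subtype.ext (mem_centralizer_singleton_iff.1 hu)) with h8 | h8
        · exfalso
          have h9 : u = 1 := h8
          rw [h9, orderOf_one] at hu2
          omega
        · exact h8
      have h9 := card_one (x := y) h6
      rw [card_pair, inf_eq_left.2 h7] at h9
      omega
    · -- type III
      have h7 := card_three (x := y) h6
      rw [card_pair] at h7
      exact ok_of_hundred h5 h7
    · exact Or.inl (core_of_type_two hy5 h6)

end Cfsg.Agent.H183.Weak.HN
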