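import Cfsg.Agent.H509.WeakBlock
import Cfsg.Agent.H287.Blk.Base
import Cfsg.Agent.Blocks.OrbitCount

/-!
# S4095 at the prime 2: tools for `FactA` and `FactB` (helper183)

* `factB_of_good` : `FactB L` from `H287.Blk.Good r x`, `orderOf x = r` and `O_2(C(x)) = 1` (the set `Y` of the elements
  `z` of order `r` with `O_2(C(z)) = 1` is invariant under the automorphisms: nothing about fusion is needed);
  `factB_of_good_equiv` : the same with `x` in an isomorphic group;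
* `FactA.congr` : isomorphisms;
* `dvd_core`, `core_eq_bot_of_part` : `p ^ n ∣ |C|`, no involution of `G` has `p ^ (m + 1) ∣ |C(t)|` imply
  `p ^ (n - m) ∣ |O_2(C)| - 1`;
* `Spec C t`, `exists_spec` : if `O_2(C) ≠ 1`, there is an involution `t` of `C` whose conjugates under `C` lie in a
  2-group `Z ≤ C ∩ C(t)`; `Spec.card_le` : `|C| ≤ |Z| |C ∩ C(t)|`; `Spec.le_of_unique`.
-/

set_option autoImplicit false

namespace Cfsg.Agent.H183.Weak

open Subgroup Cfsg Cfsg.Agent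
open Cfsg.Agent.H509.Weak
open Cfsg.Agent.H652.Four
open Cfsg.Agent.Blocks.LocalRing
open Cfsg.Agent.Blocks

universe u v

/-- centralizers under isomorphisms -/
noncomputable def centEquiv' {L : Type*} {M : Type*} [Group L] [Group M] (e : L ≃* M) (y : L) :
    ↥(centralizer ({y} : Set L)) ≃* ↥(centralizer ({e y} : Set M)) :=
  (e.subgroupMap (centralizer ({y} : Set L))).trans (MulEquiv.subgroupCongr (by
    ext g
    rw [mem_centralizer_singleton_iff]
    constructor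
    · rintro ⟨s, hs, rfl⟩
      have h1 := mem_centralizer_singleton_iff.1 hs
      change e s * e y = e y * e s
      rw [← map_mul, ← map_mul, h1]
    · intro h
      refine ⟨e.symm g, ?_, e.apply_symm_apply g⟩
      change e.symm g ∈ centralizer ({y} : Set L)
      rw [mem_centralizer_singleton_iff]
      apply e.injective
      rw [map_mul, map_mul, e.apply_symm_apply]
      exact h))

/-! ### `FactB` -/

/-- **`FactB` from `Good`**: no information on the action of the automorphisms is needed. -/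
theorem factB_of_good {L : Type u} [Group L] [Finite L] {r : ℕ} (hr : r ≠ 1) {x : L} (hg : H287.Blk.Good r x)
    (hx : orderOf x = r) (hO : pCore 2 ↥(centralizer ({x} : Set L)) = ⊥) : FactB L := by
  have hinv : ∀ β : MulAut L, ∀ y ∈ {z : L | orderOf z = r ∧ pCore 2 ↥(centralizer ({z} : Set L)) = ⊥},
      β y ∈ {z : L | orderOf z = r ∧ pCore 2 ↥(centralizer ({z} : Set L)) = ⊥} := by
    rintro β y ⟨h1, h2⟩
    exact ⟨by rw [← h1]; exact MulEquiv.orderOf_eq β y, pCore_equiv (centEquiv β y) h2⟩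
  refine ⟨{z : L | orderOf z = r ∧ pCore 2 ↥(centralizer ({z} : Set L)) = ⊥}, hinv, ?_, ?_⟩
  · rintro y ⟨h1, h2⟩
    refine ⟨?_, h2⟩
    rintro rfl
    rw [orderOf_one] at h1
    exact hr h1.symm
  · intro M hM
    refine hg M hM _ ⟨fun g y => ?_, fun g => ?_, fun g hg' => ?_, ?_⟩
    · by_cases h : y ∈ {z : L | orderOf z = r ∧ pCore 2 ↥(centralizer ({z} : Set L)) = ⊥}
      · rw [ind_pos h]
        exact ind_pos (hinv (MulAut.conj g) y h)
      · rw [ind_neg h]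
        refine ind_neg fun h' => h ?_
        have h3 := hinv (MulAut.conj g⁻¹) _ h'
        have h4 : MulAut.conj g⁻¹ (g * y * g⁻¹) = y := by
          rw [MulAut.conj_apply]
          group
        rwa [h4] at h3
    · by_cases h : g ∈ {z : L | orderOf z = r ∧ pCore 2 ↥(centralizer ({z} : Set L)) = ⊥}
      · rw [ind_pos h]
        have := memLocalRing_natCast hM 1
        simpa using this
      · rw [ind_neg h]
        have := memLocalRing_natCast hM 0
        simpa using this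
    · by_contra h
      exact hg' (ind_neg fun h' => h h'.1)
    · rw [ind_pos (show x ∈ {z : L | orderOf z = r ∧ pCore 2 ↥(centralizer ({z} : Set L)) = ⊥} from ⟨hx, hO⟩)]
      intro h1
      have h2 : MemLocalIdeal M ((1 : ℕ) : ℂ) := by simpa using h1
      rw [memLocalIdeal_natCast_iff hM] at h2
      omega

/-- the same with `x` in an isomorphic group -/
theorem factB_of_good_equiv {L : Type u} {Q : Type v} [Group L] [Group Q] [Finite L] (e : L ≃* Q) {r : ℕ} (hr : r ≠ 1)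
    {x : Q} (hg : H287.Blk.Good r x) (hx : orderOf x = r) (hO : pCore 2 ↥(centralizer ({x} : Set Q)) = ⊥) :
    FactB L := by
  refine factB_of_good hr (x := e.symm x) (H287.Blk.Good.congr e ?_) ?_ ?_
  · rw [e.apply_symm_apply]
    exact hg
  · rw [← hx]
    exact MulEquiv.orderOf_eq e.symm x
  · exact pCore_equiv (centEquiv' e.symm x) hO

/-! ### `FactA` -/

theorem FactA.congr {L : Type u} {Q : Type v} [Group L] [Group Q] (e : L ≃* Q) (h : FactA Q) : FactA L := by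
  obtain ⟨P, hP, h⟩ := h
  refine ⟨P.map e.symm.toMonoidHom, ?_, fun w hw hw2 => ?_⟩
  · rw [card_map_of_injective e.symm.injective]
    exact hP
  · rw [card_map_of_injective e.symm.injective]
    have h1 : orderOf (e w) = orderOf w := MulEquiv.orderOf_eq e w
    have h2 := Nat.card_congr (centEquiv' e w).toEquiv
    rcases h (e w) (by rw [h1]; exact hw) (by rw [h1]; exact hw2) with h3 | h3
    · exact Or.inl (pCore_equiv (centEquiv' e w).symm h3)
    · right
      rwa [h2]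

/-- a power of a nontrivial 2-element is an involution -/
theorem exists_pow_two {G : Type*} [Group G] {v : G} (h1 : v ≠ 1) {k : ℕ} (h : v ^ 2 ^ k = 1) :
    ∃ j : ℕ, orderOf (v ^ j) = 2 := by
  obtain ⟨i, -, hi⟩ := (Nat.dvd_prime_pow Nat.prime_two).1 (orderOf_dvd_of_pow_eq_one h)
  cases i with
  | zero =>
    rw [pow_zero, orderOf_eq_one_iff] at hi
    exact absurd hi h1
  | succ i =>
    refine ⟨2 ^ i, ?_⟩
    rw [orderOf_pow_of_dvd (by positivity) (by rw [hi]; exact pow_dvd_pow 2 (Nat.le_succ i)), hi, pow_succ,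
      Nat.mul_div_cancel_left _ (by positivity)]

/-- **Orbits on `O_2(C)`.** -/
theorem dvd_core {G : Type*} [Group G] [Finite G] {p n m : ℕ} [Fact p.Prime] {C : Subgroup G}
    (hn : p ^ n ∣ Nat.card C) (hm : ∀ t : G, orderOf t = 2 → ¬ p ^ (m + 1) ∣ Nat.card ↥(centralizer ({t} : Set G))) :
    p ^ (n - m) ∣ Nat.card ↥(pCore 2 ↥C) - 1 := by
  classical
  obtain ⟨P, hP⟩ := Sylow.exists_subgroup_card_pow_prime p hn
  have hVn := Lib.Cores.pCore_normal (G := ↥C) 2
  have hV2 := Lib.Cores.pCore_isPGroup (G := ↥C) 2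
  let X := {v : ↥(pCore 2 ↥C) // v ≠ 1}
  let act : MulAction ↥P X :=
    { smul := fun g v => ⟨⟨(g : ↥C) * (v.1 : ↥C) * (g : ↥C)⁻¹, hVn.conj_mem _ v.1.2 _⟩, fun h => v.2 (by
        have h1 : (g : ↥C) * (v.1 : ↥C) * (g : ↥C)⁻¹ = 1 := congrArg Subtype.val h
        apply Subtype.ext
        rw [mul_inv_eq_one] at h1
        change (v.1 : ↥C) = 1
        exact mul_eq_left.1 h1)⟩
      one_smul := fun v => by
        apply Subtype.ext
        apply Subtype.ext
        change ((1 : ↥P) : ↥C) * (v.1 : ↥C) * ((1 : ↥P) : ↥C)⁻¹ = v.1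
        rw [OneMemClass.coe_one, one_mul, inv_one, mul_one]
      mul_smul := fun a b v => by
        apply Subtype.ext
        apply Subtype.ext
        change ((a * b : ↥P) : ↥C) * (v.1 : ↥C) * ((a * b : ↥P) : ↥C)⁻¹ =
          (a : ↥C) * ((b : ↥C) * (v.1 : ↥C) * (b : ↥C)⁻¹) * (a : ↥C)⁻¹
        rw [Subgroup.coe_mul]
        group }
  have hX : Nat.card X = Nat.card ↥(pCore 2 ↥C) - 1 := by
    have h1 : Nat.card X = Nat.card ({1}ᶜ : Set ↥(pCore 2 ↥C)) := rfl
    rw [h1, Nat.card_coe_set_eq, Set.ncard_compl, Set.ncard_singleton]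
  rw [← hX]
  refine Blocks.OrbitCount.dvd_card_of_forall_orbit (P := ↥P) _ fun v => ?_
  have h1 : Nat.card (MulAction.orbit ↥P v) * Nat.card (MulAction.stabilizer ↥P v) = p ^ n := by
    rw [← hP, ← Nat.card_prod]
    exact Nat.card_congr (MulAction.orbitProdStabilizerEquivGroup ↥P v)
  obtain ⟨k, hk⟩ := hV2 v.1
  have hv1 : (((v.1 : ↥C)) : G) ≠ 1 := fun h => v.2 (Subtype.ext (Subtype.ext h))
  have hvk : (((v.1 : ↥C)) : G) ^ 2 ^ k = 1 := by
    have := congrArg (fun z : ↥(pCore 2 ↥C) => (((z : ↥C)) : G)) hk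
    simpa using this
  obtain ⟨j, hj⟩ := exists_pow_two hv1 hvk
  have h2 : Nat.card (MulAction.stabilizer ↥P v) ∣
      Nat.card ↥(centralizer ({(((v.1 : ↥C)) : G) ^ j} : Set G)) := by
    let f : ↥(MulAction.stabilizer ↥P v) →* ↥(centralizer ({(((v.1 : ↥C)) : G) ^ j} : Set G)) :=
      ((C.subtype.comp (P.subtype)).comp (MulAction.stabilizer ↥P v).subtype).codRestrict _ (fun g => by
        have h3 : (g : ↥P) • v = v := g.2
        have h4 : (((g : ↥P) : ↥C) : G) * (((v.1 : ↥C)) : G) * ((((g : ↥P) : ↥C) : G))⁻¹ = (((v.1 : ↥C)) : G) :=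
          congrArg (fun z : X => (((z.1 : ↥C)) : G)) h3
        have h5 : Commute (((g : ↥P) : ↥C) : G) (((v.1 : ↥C)) : G) := mul_inv_eq_iff_eq_mul.1 h4
        exact mem_centralizer_singleton_iff.2 (h5.pow_right j))
    have hf : Function.Injective f := by
      intro a b h
      have h6 : ((((a : ↥P) : ↥C)) : G) = (((b : ↥P) : ↥C) : G) :=
        congrArg (fun z : ↥(centralizer ({(((v.1 : ↥C)) : G) ^ j} : Set G)) => (z : G)) h
      exact Subtype.ext (Subtype.ext (Subtype.ext h6))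
    exact card_dvd_of_injective f hf
  obtain ⟨i, hin, hi⟩ := (Nat.dvd_prime_pow (Fact.out : p.Prime)).1 (Dvd.intro_left _ h1)
  have him : i ≤ m := by
    by_contra hcon
    apply hm _ hj
    refine (pow_dvd_pow p (by omega : m + 1 ≤ i)).trans ?_
    rw [← hi]
    exact h2
  rw [hi, show p ^ n = p ^ (n - i) * p ^ i by rw [← pow_add]; congr 1; omega] at h1
  rw [Nat.eq_of_mul_eq_mul_right (pow_pos (Fact.out : p.Prime).pos i) h1]
  exact pow_dvd_pow p (by omega)

/-- **`O_2(C) = 1` from the number of orbits.** -/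
theorem core_eq_bot_of_part {G : Type*} [Group G] [Finite G] (p n m k : ℕ) [Fact p.Prime] {C : Subgroup G}
    (hn : p ^ n ∣ Nat.card C) (hm : ∀ t : G, orderOf t = 2 → ¬ p ^ (m + 1) ∣ Nat.card ↥(centralizer ({t} : Set G)))
    (hk : ¬ 2 ^ (k + 1) ∣ Nat.card G) (hnum : ∀ j, 1 ≤ j → j ≤ k → ¬ p ^ (n - m) ∣ 2 ^ j - 1) :
    pCore 2 ↥C = ⊥ := by
  have h2 : Fact (Nat.Prime 2) := ⟨Nat.prime_two⟩
  obtain ⟨j, hj⟩ := IsPGroup.iff_card.1 (Lib.Cores.pCore_isPGroup (G := ↥C) 2)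
  have h := dvd_core hn hm
  rw [hj] at h
  have hjk : j ≤ k := by
    by_contra hcon
    apply hk
    refine (pow_dvd_pow 2 (by omega : k + 1 ≤ j)).trans ?_
    rw [← hj]
    exact (card_subgroup_dvd_card _).trans (card_subgroup_dvd_card C)
  rcases Nat.eq_zero_or_pos j with h0 | h0
  · rw [h0, pow_zero] at hj
    exact Subgroup.card_eq_one.1 hj
  · exact absurd h (hnum j h0 hjk)

/-! ### involutions of `Z(O_2(C))` -/

/-- the involution `t` of `C` has its conjugates under `C` in a 2-group `Z ≤ C ∩ C(t)` -/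
structure Spec {G : Type*} [Group G] (C : Subgroup G) (t : G) : Prop where
  ord : orderOf t = 2
  mem : t ∈ C
  ex : ∃ Z : Subgroup G, IsPGroup 2 Z ∧ Z ≤ C ⊓ centralizer ({t} : Set G) ∧ ∀ g ∈ C, g * t * g⁻¹ ∈ Z

theorem exists_spec {G : Type*} [Group G] [Finite G] {C : Subgroup G} (h : pCore 2 ↥C ≠ ⊥) : ∃ t : G, Spec C t := by
  have h2 : Fact (Nat.Prime 2) := ⟨Nat.prime_two⟩
  have hVn := Lib.Cores.pCore_normal (G := ↥C) 2
  have hV2 := Lib.Cores.pCore_isPGroup (G := ↥C) 2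
  have hnt : Nontrivial ↥(pCore 2 ↥C) := (Subgroup.nontrivial_iff_ne_bot _).2 h
  have hZnt : Nontrivial ↥(center ↥(pCore 2 ↥C)) := hV2.center_nontrivial
  obtain ⟨t, ht⟩ : ∃ t : ↥(center ↥(pCore 2 ↥C)), orderOf t = 2 := by
    obtain ⟨z, hz⟩ := exists_ne (1 : ↥(center ↥(pCore 2 ↥C)))
    obtain ⟨k, hk⟩ := (hV2.to_subgroup (center ↥(pCore 2 ↥C))) z
    obtain ⟨j, hj⟩ := exists_pow_two hz hk
    exact ⟨z ^ j, hj⟩
  let φ : ↥(pCore 2 ↥C) →* G := C.subtype.comp (pCore 2 ↥C).subtype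
  have hφ : Function.Injective φ := fun a b hab => Subtype.ext (Subtype.ext hab)
  let t' : ↥(pCore 2 ↥C) := (t : ↥(pCore 2 ↥C))
  refine ⟨φ t', ?_, (t' : ↥C).2, (center ↥(pCore 2 ↥C)).map φ, (hV2.to_subgroup _).map φ, ?_, ?_⟩
  · rw [orderOf_injective φ hφ]
    exact (Subgroup.orderOf_coe t).trans ht
  · rintro _ ⟨z, hz, rfl⟩
    refine ⟨(z : ↥C).2, mem_centralizer_singleton_iff.2 ?_⟩
    rw [← map_mul, ← map_mul, mem_center_iff.1 hz t']
  · intro g hg
    refine ⟨⟨(⟨g, hg⟩ : ↥C) * (t' : ↥C) * (⟨g, hg⟩ : ↥C)⁻¹, hVn.conj_mem _ t'.2 _⟩, ?_, rfl⟩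
    rw [SetLike.mem_coe, mem_center_iff]
    intro v
    have h3 : (⟨g, hg⟩ : ↥C)⁻¹ * (v : ↥C) * ((⟨g, hg⟩ : ↥C)⁻¹)⁻¹ ∈ pCore 2 ↥C := hVn.conj_mem _ v.2 _
    have h4 := mem_center_iff.1 t.2 ⟨_, h3⟩
    have h5 : (⟨g, hg⟩ : ↥C)⁻¹ * (v : ↥C) * ((⟨g, hg⟩ : ↥C)⁻¹)⁻¹ * (t' : ↥C) =
        (t' : ↥C) * ((⟨g, hg⟩ : ↥C)⁻¹ * (v : ↥C) * ((⟨g, hg⟩ : ↥C)⁻¹)⁻¹) := congrArg Subtype.val h4
    apply Subtype.ext
    change (v : ↥C) * ((⟨g, hg⟩ : ↥C) * (t' : ↥C) * (⟨g, hg⟩ : ↥C)⁻¹) =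
      (⟨g, hg⟩ : ↥C) * (t' : ↥C) * (⟨g, hg⟩ : ↥C)⁻¹ * (v : ↥C)
    calc (v : ↥C) * ((⟨g, hg⟩ : ↥C) * (t' : ↥C) * (⟨g, hg⟩ : ↥C)⁻¹)
        = (⟨g, hg⟩ : ↥C) * (((⟨g, hg⟩ : ↥C)⁻¹ * (v : ↥C) * ((⟨g, hg⟩ : ↥C)⁻¹)⁻¹) * (t' : ↥C)) * (⟨g, hg⟩ : ↥C)⁻¹ := by
          group
      _ = (⟨g, hg⟩ : ↥C) * ((t' : ↥C) * ((⟨g, hg⟩ : ↥C)⁻¹ * (v : ↥C) * ((⟨g, hg⟩ : ↥C)⁻¹)⁻¹)) * (⟨g, hg⟩ : ↥C)⁻¹ := by
          rw [h5]
      _ = _ := by group

namespace Spec

variable {G : Type*} [Group G] {C : Subgroup G} {t : G}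

theorem comm (h : Spec C t) {w : G} (hC : C = centralizer ({w} : Set G)) : t * w = w * t := by
  have := h.mem
  rw [hC] at this
  exact mem_centralizer_singleton_iff.1 this

theorem conj (h : Spec C t) (c : G) : Spec (C.map (MulAut.conj c).toMonoidHom) (c * t * c⁻¹) := by
  obtain ⟨Z, hZ2, hZ, hC⟩ := h.ex
  refine ⟨?_, ⟨t, h.mem, rfl⟩, Z.map (MulAut.conj c).toMonoidHom, hZ2.map _, ?_, ?_⟩
  · rw [← h.ord]
    exact MulEquiv.orderOf_eq (MulAut.conj c) t
  · rintro _ ⟨z, hz, rfl⟩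
    refine ⟨⟨z, (hZ hz).1, rfl⟩, mem_centralizer_singleton_iff.2 ?_⟩
    have h1 := mem_centralizer_singleton_iff.1 (hZ hz).2
    change c * z * c⁻¹ * (c * t * c⁻¹) = c * t * c⁻¹ * (c * z * c⁻¹)
    calc c * z * c⁻¹ * (c * t * c⁻¹) = c * (z * t) * c⁻¹ := by group
      _ = c * (t * z) * c⁻¹ := by rw [h1]
      _ = _ := by group
  · rintro _ ⟨g, hg, rfl⟩
    refine ⟨g * t * g⁻¹, hC g hg, ?_⟩
    change c * (g * t * g⁻¹) * c⁻¹ = c * g * c⁻¹ * (c * t * c⁻¹) * (c * g * c⁻¹)⁻¹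
    group

/-- **`|C| ≤ |Z| |C ∩ C(t)|`**, with the 2-part bounded by `2 ^ k`. -/
theorem card_le [Finite G] (h : Spec C t) {k : ℕ}
    (hk : ¬ 2 ^ (k + 1) ∣ Nat.card ↥(C ⊓ centralizer ({t} : Set G) : Subgroup G)) :
    Nat.card C ≤ 2 ^ k * Nat.card ↥(C ⊓ centralizer ({t} : Set G) : Subgroup G) := by
  have h2 : Fact (Nat.Prime 2) := ⟨Nat.prime_two⟩
  obtain ⟨Z, hZ2, hZ, hC⟩ := h.ex
  obtain ⟨j, hj⟩ := IsPGroup.iff_card.1 hZ2
  have hjk : 2 ^ j ≤ 2 ^ k := by
    apply Nat.pow_le_pow_right (by norm_num)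
    by_contra hcon
    apply hk
    refine (pow_dvd_pow 2 (by omega : k + 1 ≤ j)).trans ?_
    rw [← hj]
    exact card_dvd_of_le hZ
  -- fibres of `g ↦ g t g⁻¹`
  let D : Subgroup ↥C := (centralizer ({t} : Set G)).subgroupOf C
  have hD : Nat.card D = Nat.card ↥(C ⊓ centralizer ({t} : Set G) : Subgroup G) := by
    have h3 : D.map C.subtype = C ⊓ centralizer ({t} : Set G) := by
      rw [Subgroup.subgroupOf_map_subtype, inf_comm]
    rw [← h3, card_map_of_injective C.subtype_injective]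
  let f : ↥C ⧸ D → ↥Z := Quotient.lift (fun g : ↥C => (⟨(g : G) * t * (g : G)⁻¹, hC g g.2⟩ : ↥Z)) (by
    intro a b hab
    have h3 : a⁻¹ * b ∈ D := QuotientGroup.leftRel_apply.1 hab
    have h4 := mem_centralizer_singleton_iff.1 (Subgroup.mem_subgroupOf.1 h3)
    apply Subtype.ext
    change (a : G) * t * (a : G)⁻¹ = (b : G) * t * (b : G)⁻¹
    have h5 : ((a⁻¹ * b : ↥C) : G) = (a : G)⁻¹ * b := rfl
    rw [h5] at h4
    calc (a : G) * t * (a : G)⁻¹ = (a : G) * (t * ((a : G)⁻¹ * b)) * (b : G)⁻¹ := by group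
      _ = (a : G) * ((a : G)⁻¹ * b * t) * (b : G)⁻¹ := by rw [h4]
      _ = _ := by group)
  have hf : Function.Injective f := by
    intro x y
    induction x using QuotientGroup.induction_on with
    | H a =>
      induction y using QuotientGroup.induction_on with
      | H b =>
        intro hab
        have h3 : (a : G) * t * (a : G)⁻¹ = (b : G) * t * (b : G)⁻¹ := congrArg Subtype.val hab
        rw [QuotientGroup.eq]
        refine Subgroup.mem_subgroupOf.2 (mem_centralizer_singleton_iff.2 ?_)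
        change (a : G)⁻¹ * b * t = t * ((a : G)⁻¹ * b)
        calc (a : G)⁻¹ * b * t = (a : G)⁻¹ * ((b : G) * t * (b : G)⁻¹) * b := by group
          _ = (a : G)⁻¹ * ((a : G) * t * (a : G)⁻¹) * b := by rw [h3]
          _ = _ := by group
  have h6 : Nat.card (↥C ⧸ D) ≤ 2 ^ k := (Nat.card_le_card_of_injective f hf).trans (hj ▸ hjk)
  rw [← hD, ← Subgroup.card_mul_index D, mul_comm]
  exact Nat.mul_le_mul_right _ h6

theorem le_of_unique (h : Spec C t) (hu : ∀ u ∈ C, orderOf u = 2 → u * t = t * u → u = t) :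
    C ≤ centralizer ({t} : Set G) := by
  obtain ⟨Z, hZ2, hZ, hC⟩ := h.ex
  intro g hg
  have h1 := hu (g * t * g⁻¹) (mul_mem (mul_mem hg h.mem) (inv_mem hg))
    (by rw [← h.ord]; exact MulEquiv.orderOf_eq (MulAut.conj g) t)
    (mem_centralizer_singleton_iff.1 (hZ (hC g hg)).2)
  exact mem_centralizer_singleton_iff.2 (mul_inv_eq_iff_eq_mul.1 h1)

/-- if `4 ∤ |C|` then `C ≤ C(t)` -/
theorem le_of_not_four [Finite G] (h : Spec C t) (h4 : ¬ 4 ∣ Nat.card C) : C ≤ centralizer ({t} : Set G) := by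
  refine h.le_of_unique fun u hu hu2 hut => ?_
  by_contra hne
  apply h4
  -- the four-group `⟨t, u⟩`
  have h2 : Fact (Nat.Prime 2) := ⟨Nat.prime_two⟩
  obtain ⟨Z, hZ2, hZ, -⟩ := h.ex
  have htt : t * t = 1 := by rw [← pow_two, ← h.ord, pow_orderOf_eq_one]
  have huu : u * u = 1 := by rw [← pow_two, ← hu2, pow_orderOf_eq_one]
  have ht1 : t ≠ 1 := by
    intro h1
    have := h.ord
    rw [h1, orderOf_one] at this
    omega
  let F : Subgroup G := zpowers t ⊔ zpowers u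
  have hFC : F ≤ C := sup_le (zpowers_le.2 h.mem) (zpowers_le.2 hu)
  have h3 : Disjoint (zpowers t) (zpowers u) := by
    rw [disjoint_iff, eq_bot_iff]
    rintro x ⟨hx, hx'⟩
    obtain ⟨i, rfl⟩ := hx
    obtain ⟨j, hj⟩ := hx'
    change u ^ j = t ^ i at hj
    rcases Int.even_or_odd' i with ⟨a, rfl | rfl⟩
    · change t ^ (2 * a) = 1
      rw [zpow_mul, show (t ^ (2 : ℤ)) = 1 by rw [zpow_two]; exact htt, one_zpow]
    · exfalso
      have e1 : t ^ (2 * a + 1) = t := by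
        rw [zpow_add, zpow_mul, show (t ^ (2 : ℤ)) = 1 by rw [zpow_two]; exact htt, one_zpow, one_mul, zpow_one]
      rw [e1] at hj
      rcases Int.even_or_odd' j with ⟨b, rfl | rfl⟩
      · rw [zpow_mul, show (u ^ (2 : ℤ)) = 1 by rw [zpow_two]; exact huu, one_zpow] at hj
        exact ht1 hj.symm
      · rw [zpow_add, zpow_mul, show (u ^ (2 : ℤ)) = 1 by rw [zpow_two]; exact huu, one_zpow, one_mul, zpow_one] at hj
        exact hne hj
  have h4' : Nat.card ↥(zpowers t) * Nat.card ↥(zpowers u) ∣ Nat.card F := by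
    have h5 : ∀ a ∈ zpowers t, ∀ b ∈ zpowers u, Commute a b := by
      rintro _ ⟨i, rfl⟩ _ ⟨j, rfl⟩
      exact ((show Commute t u from hut.symm).zpow_zpow i j)
    let f : ↥(zpowers t) × ↥(zpowers u) →* G :=
      MonoidHom.noncommCoprod (zpowers t).subtype (zpowers u).subtype (fun a b => h5 a a.2 b b.2)
    have hf : Function.Injective f := by
      rw [injective_iff_map_eq_one]
      rintro ⟨a, b⟩ hab
      have h6 : (a : G) * b = 1 := hab
      have h7 : (a : G) = (b : G)⁻¹ := eq_inv_of_mul_eq_one_left h6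
      have h8 : (a : G) ∈ zpowers t ⊓ zpowers u := ⟨a.2, by rw [h7]; exact (zpowers u).inv_mem b.2⟩
      rw [h3.eq_bot, mem_bot] at h8
      have h9 : (b : G) = 1 := by rw [h8, one_mul] at h6; exact h6
      exact Prod.ext (Subtype.ext h8) (Subtype.ext h9)
    have h10 : f.range ≤ F := by
      rintro _ ⟨⟨a, b⟩, rfl⟩
      exact mul_mem (mem_sup_left a.2) (mem_sup_right b.2)
    have h11 : Nat.card f.range = Nat.card ↥(zpowers t) * Nat.card ↥(zpowers u) := by
      rw [← Nat.card_prod]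
      exact (Nat.card_congr (MonoidHom.ofInjective hf).toEquiv).symm
    rw [← h11]
    exact card_dvd_of_le h10
  rw [Nat.card_zpowers, Nat.card_zpowers, h.ord, hu2] at h4'
  exact h4'.trans (card_dvd_of_le hFC)

end Spec

end Cfsg.Agent.H183.Weak
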